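import Mathlib
import Cfsg.Agent.W4.Data
import Cfsg.Agent.W4.Defs2

/-! The configuration `S3 × A5`: an element `y` of order three and the root elements of `Q` and `Q_a` centralised by `y`. -/

set_option autoImplicit false
set_option maxRecDepth 100000
set_option synthInstance.maxSize 10000
set_option linter.unusedSectionVars false
set_option linter.unusedVariables false

namespace Cfsg.Agent.W4M

open Cfsg.Agent.Spor Cfsg.Agent.Spor.TT Cfsg.Agent.LX Cfsg.Agent.Gr6 Cfsg.Agent.W3 Cfsg.Agent.W4 Subgroup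

/-- The element of order three. -/
def Ym : ℕ := 0x8268401008020601
/-- Its inverse. -/
def Yi : ℕ := 0x8420681008060401
/-- The involution of the factor `S3` fixing `e0`. -/
def sM : ℕ := 0x8043259609040201
/-- Another involution of the factor `S3`. -/
def oM : ℕ := 0x7003058601284808
/-- An involution of the factor `A5` inverting `Ym`. -/
def tM : ℕ := 0x370380810040686
/-- The first base point. -/
def d0 : PD := ⟨1, 0xffff, 0x8448203008040301, 0x8240285008050201, 0x8043259609040201⟩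
/-- The second base point. -/
def d1 : PD := ⟨16, 0x40004040004000400040000040004000010001010001000100010000010001, 0x618681050820285,
  0x668181030048483, 0xf020401078badcf9⟩

theorem L_eq : L15 = [d0, d1] := rfl

theorem c_w : wm (gn L15) [4, 1, 0, 3, 0] = Ym ∧ wm (gn L15) [5, 2, 5] = oM ∧ wm (gn L15) [0, 4, 0] = tM := by
  decide +kernel

theorem c_y : ∀ v, mx Ym (mx Ym (mx Ym v)) = v ∧ mx Ym (mx Yi v) = v ∧ mx oM (mx Ym v) = mx Ym (mx oM v) ∧
    mx tM (mx Ym v) = mx Yi (mx tM v) ∧ mx tM (mx tM v) = v := by decide +kernel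

theorem c_z : ∀ v, mx Ym v = v → fb v (vv 1) = false → fb v (vv 8) = false → (v = 0 ∨ v = vv 1 ∨ v = vv 8 ∨ v = vv 9) ∧
    (fb v (vv 134) = false → fb v (vv 16) = false → v = 0) := by decide +kernel

theorem c_adj : ∀ i j k l : Bool, ∃ v, mx Ym v = v ∧ fb v (vv 1) = i ∧ fb v (vv 8) = j ∧ fb v (vv 134) = k ∧
    fb v (vv 16) = l := by decide +kernel

theorem c_b : ∀ v, mx Ym v = v → fb v (vv 1) = false → fb v (vv 134) = true → qb false v = false → ∃ w, mx Ym w = w ∧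
    qb false w = false ∧ fb w (vv 1) = true ∧ fb w (vv 134) = false ∧ fb w v = false ∧ ∀ u, mx Ym u = u →
      qb false u = false → fb u (vv 1) = true → fb u (vv 134) = false → fb u (vv 1 + v) = false → u = w + vv 134 := by
  decide +kernel

theorem c_s : ∀ m ∈ d0.els, mx m (mx Ym (vv 131)) = mx Ym (mx m (vv 131)) → m = one ∨ m = sM := by decide +kernel

theorem c_W : ∀ p ∈ W15, mx (wm (gn L15) p.2) (vv 1) = vv p.1 ∧ (mx (wm (gn L15) p.2) (vv 1) = vv 1 → p.2 = []) := by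
  decide +kernel

theorem c_N : ∀ n ∈ N15, mx n (vv 1) = vv 1 ∧ (mx n (vv 8) = vv 8 ∨ mx n (vv 8) = vv 9) ∧
    mx n (vv 134) ∈ [vv 134, vv 131, vv 133, vv 129] ∧ (mx n (vv 8) = vv 8 → mx n (mx Ym (vv 134)) = mx Ym (mx n (vv 134)) →
      mx n (mx Ym (vv 131)) = mx Ym (mx n (vv 131)) → n = one ∨ n = Ym ∨ n = Yi) := by decide +kernel

variable {G : Type*} [Group G] {z a b c e g p q s t w x y : G} {τ : Bool} {π : G → V} {S S' T : V → V}

theorem sw (h : g * g = 1) (k : cj g x = w) : cj g w = x := by rw [← k, cj_cj, h, cj_one]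

theorem mul_mul (h : x * x = 1) (w : G) : x * (x * w) = w := by rw [← mul_assoc, h, one_mul]

theorem s3 (xx : x * x = 1) (ww : w * w = 1) (c : Commute x w) (h1 : cj s x = x) (h2 : cj s w = x * w) (h3 : cj t w = w)
    (h4 : cj t x = x * w) : cj (s * t * s) x = w ∧ cj (s * t * s) w = x ∧ cj (t * s * t) x = w ∧ cj (t * s * t) w = x := by
  have k : x * w * w = x := by rw [mul_assoc, ww, mul_one]
  have k1 : w * (x * w) = x := by rw [c.eq, mul_mul ww]
  have k2 : x * w * x = w := by rw [mul_assoc, ← c.eq, mul_mul xx]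
  simp only [← cj_cj, cj_mul, h1, h2, h3, h4, mul_mul xx, k, k1, k2, and_self]

theorem inv_cube (ss : s * s = 1) (tt : t * t = 1) : s * t * s * (s * t * s) = 1 ∧
    cj s (s * t * s * (t * s * t)) = (s * t * s * (t * s * t))⁻¹ ∧ cj t (s * t * s * (t * s * t)) = (s * t * s * (t * s * t))⁻¹ ∧
    (s * t * s * (t * s * t) = 1 → s * t * s = t * s * t ∧ cj (s * t * s) s = t) := by
  have h1 := inv_eq_of_mul_eq_one_right ss
  have h2 := inv_eq_of_mul_eq_one_right tt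
  refine ⟨?_, ?_, ?_, fun k => ⟨?_, ?_⟩⟩
  · simp [mul_assoc, mul_mul ss, mul_mul tt, ss]
  · simp [cj, mul_assoc, mul_mul ss, h1, h2]
  · simp [cj, mul_assoc, h1, h2, tt]
  · simpa [mul_assoc, h1, h2] using eq_inv_of_mul_eq_one_left k
  · simpa [cj, mul_assoc, h1, h2, mul_mul ss, mul_mul tt, tt] using congrArg (· * t) k

variable [Finite G]

section Co

variable (k : Co z τ π)
include k

theorem fix3 (c : Ac z π y T) (y3 : y ^ 3 = 1) (hx : x ∈ QQ z) (e : T (π x) = π x) : Commute y x := by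
  refine cj_eq_self_iff.1 (((k.fix_iff c hx).1 e).resolve_right fun e => k.bg.ne_one ?_)
  have := congrArg (cj · x) y3
  simpa [pow_succ, ← cj_cj, cj_mul, e, cj_of_commute c.1.symm, mul_mul k.zz, cj_one] using this

theorem exists_ord3 (c : Ac z π g T) (e : ∀ v, T (T (T v)) = v) : ∃ y, Ac z π y T ∧ y ^ 3 = 1 := by
  have h1 := k.ac_mul c (k.ac_mul c c)
  refine ⟨_, (k.ac_mul c h1).congr fun v => e _, ?_⟩
  have h2 : (g * (g * (g * g))) ^ 3 = (g * (g * g) * (g * (g * g))) ^ 2 := by simp only [pow_succ, pow_zero, one_mul, mul_assoc]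
  rcases k.bg.es.sq _ (k.mem_of_ac h1 e) with e | e <;> rw [h2, e]
  · exact one_pow 2
  · rw [pow_two, k.zz]

theorem fratt {y' : G} (c : Ac z π y S) (y3 : y ^ 3 = 1) (c' : Ac z π y' S') (y3' : y' ^ 3 = 1) (cg : Ac z π g T)
    (e : ∀ v, T (S v) = S' (T v)) : ∃ g', Ac z π g' T ∧ cj g' y = y' := by
  have hq := k.mul_inv_mem (k.ac_cj cg c e) c' fun _ => rfl
  have h3 : cj g y ^ 3 = 1 := by rw [← cj_pow, y3, cj_one_right]
  obtain ⟨q, e1⟩ : ∃ q, q = cj g y * y'⁻¹ := ⟨_, rfl⟩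
  rw [← e1] at hq
  replace e1 : cj g y = q * y' := by rw [e1, inv_mul_cancel_right]
  have h4 : q * (cj y' q * cj y' (cj y' q)) = 1 := by
    rw [← h3, e1, ← mul_one (q * (_ * _)), ← y3']; simp [cj, pow_succ, mul_assoc]
  have h5 := k.cj_mem c' hq
  have h6 := congrArg π h4
  rw [k.mul _ hq _ (mul_mem h5 (k.cj_mem c' h5)), k.mul _ h5 _ (k.cj_mem c' h5), c'.2 _ h5, k.one, add_eq_zero_iff] at h6
  have h7 : cj (cj y' q) y' = nm y' (cj y' q) * y' := by simp [nm, cj, mul_assoc]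
  refine ⟨(cj y' q)⁻¹ * g, (k.ac_mul (k.ac_mem (inv_mem h5)) cg :), ?_⟩
  rw [← cj_cj, cj_eq_iff, inv_inv, h7, e1]
  rcases (k.eq_iff (nm_mem k.bg c'.1 h5) hq).1 ((k.pi_nm c' h5).trans h6.symm) with e | e
  · rw [e]
  refine absurd ?_ k.bg.ne_one
  have h8 : (z * cj g y) ^ 3 = 1 := by rw [e1, ← mul_assoc, ← e, ← h7, ← cj_pow, y3', cj_one_right]
  rwa [(W4.commute_cj cg.1 c.1).mul_pow, h3, mul_one, pow_succ, pow_two, k.zz, one_mul] at h8

theorem cj_cond (hg : Commute z g) (hx : x ∈ QQ z) (hw : w ∈ QQ z) (e : π (cj g x) = π w) :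
    ∃ i, ∀ q ∈ QQ z, fb (π q) (π w) = i → cj (q * g) x = w := by
  rcases (k.eq_iff (k.bg.cj_mem hg hx) hw).1 e with e | e
  · exact ⟨false, fun q hq h => by rw [← cj_cj, e, cj_of_commute ((k.comm q hq w hw).2 h)]⟩
  · exact ⟨true, fun q hq h => by
      rw [← cj_cj, e, cj_mul, k.cj_of_fb hq hw h, cj_of_commute (k.bg.comm hq).symm, mul_mul k.zz]⟩

theorem cj_or (hx : x ∈ QQ z) (hw : w ∈ QQ z) : cj x w = w ∨ cj x w = z * w :=
  (k.fix_iff (k.ac_mem hx) hw).1 rfl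

theorem nm_comm (hy : Commute z y) (hx : x ∈ QQ z) (hw : w ∈ QQ z) (c : Commute y w) : Commute w (nm y x) := by
  obtain ⟨T, h1⟩ := k.exists_ac hy
  refine (k.comm _ hw _ (nm_mem k.bg hy hx)).2 ?_
  rw [k.pi_nm h1 hx, fb_add_right, ← (k.iso h1).f (π w) (π x), k.fix_of_comm h1 hw c, Bool.xor_self]

end Co

/-- The root elements `a, c, e, p` of `Q`. -/
structure D1 (z : G) (π : G → V) (y a c e p : G) : Prop where
  lf : Lf z π O15 L15
  y3 : y ^ 3 = 1
  cy : Ac z π y (mx Ym)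
  pd : Pd z π a d0
  cQ : c ∈ QQ z
  eQ : e ∈ QQ z
  pQ : p ∈ QQ z
  pc : π c = vv 8
  pe : π e = vv 134
  pp : π p = vv 16

section Lf

variable (h : Lf z π O15 L15)
include h

theorem nr (hx : x ∈ QQ z) (e : π x = vv 135) : ¬ IsConj z x := fun c =>
  absurd (e ▸ h.pts x ⟨c, hx, fun k => absurd (e.symm.trans (k ▸ h.co.self)) (by decide)⟩) (by decide +kernel)

theorem exists_y : ∃ y, Ac z π y (mx Ym) ∧ y ^ 3 = 1 :=
  let ⟨_, c⟩ := h.rl [4, 1, 0, 3, 0]; exists_ord3 h.co (c_w.1 ▸ c) fun v => (c_y v).1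

theorem mem_N (hb : Bd z π L15 W15 N15) (c : Ac z π g T) (e : T (vv 1) = vv 1) : ∃ n ∈ N15, Ac z π g (mx n) := by
  obtain ⟨p, hp, n, hn, rfl⟩ := hb g T c
  rw [mx_mul, (c_N n hn).1] at e
  exact ⟨n, hn, c.congr fun v => by rw [mx_mul, (c_W p hp).2 e]; exact mx_one _⟩

/-- Coordinates at the point `a`. -/
theorem at_a (cy : Ac z π y (mx Ym)) (y3 : y ^ 3 = 1) (pd : Pd z π a d0) : ∃ π', Co a false π' ∧ π' z = vv 1 ∧
    Ac a π' y (mx Ym) ∧ (∀ x ∈ QQ a, π' x = vv 135 → ¬ IsConj z x) ∧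
      ∀ x ∈ QQ a, π' x = vv 134 → IsConj z x ∧ x ∉ QQ z := by
  have k := h.co
  have aQ := pd.pt.mem
  have pa : π a = vv 1 := pd.eq
  have ya := fix3 k cy y3 aQ (pa ▸ by decide +kernel)
  obtain ⟨π1, k1⟩ := k.of_isConj pd.pt.conj
  obtain ⟨T, c⟩ := k1.exists_ac ya.symm
  have zQ := (k.symm pd.pt).mem
  obtain ⟨u, hu⟩ := exists_fb _ (k1.pt_ne (k.symm pd.pt))
  have i := k1.iso c
  have t3 : ∀ v, T (T (T v)) = v := k1.ac_ext (T := id) (k1.ac_mul c (k1.ac_mul c c)) (by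
    rw [← mul_assoc, ← pow_two, ← pow_succ, y3]; exact k1.ac_mem (one_mem _))
  have tz := k1.fix_of_comm c zQ cy.1.symm
  have f1 : ∀ u, fb (T u) (π1 z) = fb u (π1 z) := fun u => by rw [← i.f u, tz]
  obtain ⟨b, hb, eb⟩ := k1.surj (u + T u + T (T u))
  have yb := fix3 k1 c y3 hb (by rw [eb, i.add, i.add, t3]; abel)
  have bz := k1.cj_of_fb hb zQ (by rw [eb, fb_add_left, fb_add_left, f1, f1, f1, hu]; rfl)
  obtain ⟨p, hp, ep⟩ := k.surj (vv 16)
  have yp := fix3 k cy y3 hp (ep ▸ by decide +kernel)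
  have pa' := k.cj_of_fb hp aQ (by rw [ep, pa]; decide +kernel)
  have pz := cj_of_commute (k.bg.comm hp).symm
  have za := k.bg.comm aQ
  have g1 : cj (p * b) z = a := by rw [← cj_cj, bz, cj_mul, pa', pz, mul_assoc, ← za.eq, mul_mul k.zz]
  have g2 : cj (p * b)⁻¹ z = z * a := (cj_eq_iff.1 (by
    rw [← cj_cj, cj_mul, bz, cj_of_commute (k1.bg.comm hb).symm, mul_assoc, za.eq, mul_mul k1.zz, pz])).symm
  have yg := (yp.mul_right yb).inv_right
  have m : ∀ x ∈ QQ a, cj (p * b)⁻¹ x ∈ QQ z := fun x hx => mem_QQ_cj.1 (g1.symm ▸ hx)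
  refine ⟨_, g1 ▸ k.conj (p * b), by rw [g2, k.z_mul aQ, pa], ⟨ya.symm, fun x hx => ?_⟩,
    fun x hx e c => nr h (m x hx) e (c.trans (LX.isConj_cj _ _)), fun x hx e => ⟨?_, fun c => ?_⟩⟩
  · rw [← cy.2 _ (m x hx), cj_cj, cj_cj, yg.eq]
  · obtain ⟨r, cr⟩ := h.rl [0, 4, 0]
    exact (k.pt_of_eq (pd.pt.cj k.bg cr.1) (m x hx) (by rw [cr.2 a aQ, e, pa]; decide +kernel)).conj.trans
      (LX.isConj_cj _ _).symm
  · exact absurd ((pd.et _).1 ((k.et_of_eq pd.pt (mul_mem k.bg.z_mem aQ) (k.z_mul aQ)).1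
      ⟨_, m x hx, g2 ▸ cj_mem_QQ.2 c, e⟩)) (by decide +kernel)

end Lf

end Cfsg.Agent.W4M
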