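import Mathlib
import Cfsg.Agent.W4M.A

/-! The configuration `S3 × A5`: construction of the root elements. -/

set_option autoImplicit false
set_option maxRecDepth 100000
set_option linter.unusedSectionVars false
set_option linter.unusedVariables false

namespace Cfsg.Agent.W4M

open Cfsg.Agent.Spor Cfsg.Agent.Spor.TT Cfsg.Agent.LX Cfsg.Agent.Gr6 Cfsg.Agent.W3 Cfsg.Agent.W4 Subgroup

variable {G : Type*} [Group G] [Finite G] {z a b c e g k p q s t w x y : G} {π : G → V} {S T : V → V}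

theorem flip (gg : g * g = 1) (ww : w * w = 1) (h : cj g w = x * w) : cj w g = g * x := by
  rw [← mul_inv_eq_iff_eq_mul.2 h]
  simp [cj, mul_assoc, mul_mul gg, inv_eq_of_mul_eq_one_right gg]

namespace D1

variable (h : D1 z π y a c e p)
include h

theorem co : Co z false π := h.lf.co
theorem aQ : a ∈ QQ z := h.pd.pt.mem
theorem pa : π a = vv 1 := h.pd.eq
theorem ya : Commute y a := fix3 h.co h.cy h.y3 h.aQ (h.pa ▸ by decide +kernel)
theorem yc : Commute y c := fix3 h.co h.cy h.y3 h.cQ (h.pc ▸ by decide +kernel)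
theorem ye : Commute y e := fix3 h.co h.cy h.y3 h.eQ (h.pe ▸ by decide +kernel)
theorem yp : Commute y p := fix3 h.co h.cy h.y3 h.pQ (h.pp ▸ by decide +kernel)
theorem aa : a * a = 1 := (h.co.sq _ h.aQ).2 (h.pa ▸ by decide +kernel)
theorem cc : c * c = 1 := (h.co.sq _ h.cQ).2 (h.pc ▸ by decide +kernel)
theorem ee : e * e = 1 := (h.co.sq _ h.eQ).2 (h.pe ▸ by decide +kernel)
theorem p2 : p * p = 1 := (h.co.sq _ h.pQ).2 (h.pp ▸ by decide +kernel)
theorem za : Commute z a := h.co.bg.comm h.aQ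
theorem zc : Commute z c := h.co.bg.comm h.cQ
theorem ze : Commute z e := h.co.bg.comm h.eQ
theorem zp : Commute z p := h.co.bg.comm h.pQ
theorem ac : Commute a c := (h.co.comm _ h.aQ _ h.cQ).2 (by rw [h.pa, h.pc]; decide +kernel)
theorem ae : Commute a e := (h.co.comm _ h.aQ _ h.eQ).2 (by rw [h.pa, h.pe]; decide +kernel)
theorem pcc : Commute p c := (h.co.comm _ h.pQ _ h.cQ).2 (by rw [h.pp, h.pc]; decide +kernel)
theorem ep : Commute e p := (h.co.comm _ h.eQ _ h.pQ).2 (by rw [h.pp, h.pe]; decide +kernel)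
theorem p_a : cj p a = z * a := h.co.cj_of_fb h.pQ h.aQ (by rw [h.pp, h.pa]; decide +kernel)
theorem e_c : cj e c = z * c := h.co.cj_of_fb h.eQ h.cQ (by rw [h.pe, h.pc]; decide +kernel)
theorem cA : c ∈ QQ a := h.co.mem_of_et h.pd.pt h.cQ ((h.pd.et _).2 (h.pc ▸ by decide +kernel))
theorem a_ne : a ≠ 1 := fun k => absurd (h.pa.symm.trans (k ▸ h.co.one)) (by decide)

theorem four (hx : x ∈ QQ z) (h1 : Commute y x) (h2 : Commute x a) (h3 : Commute x c) :
    (π x = 0 ∨ π x = vv 1 ∨ π x = vv 8 ∨ π x = vv 9) ∧ (Commute x e → Commute x p → x = 1 ∨ x = z) := by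
  obtain ⟨k1, k2⟩ := c_z _ (h.co.fix_of_comm h.cy hx h1) (h.pa ▸ (h.co.comm _ hx _ h.aQ).1 h2)
    (h.pc ▸ (h.co.comm _ hx _ h.cQ).1 h3)
  exact ⟨k1, fun h4 h5 => (h.co.ker _ hx).1
    (k2 (h.pe ▸ (h.co.comm _ hx _ h.eQ).1 h4) (h.pp ▸ (h.co.comm _ hx _ h.pQ).1 h5))⟩

theorem adj {x1 x2 x3 x4 : G} (cg : Ac z π g T) (h1 : x1 ∈ QQ z) (h2 : x2 ∈ QQ z) (h3 : x3 ∈ QQ z) (h4 : x4 ∈ QQ z)
    (e1 : T (π x1) = vv 1) (e2 : T (π x2) = vv 8) (e3 : T (π x3) = vv 134) (e4 : T (π x4) = vv 16) :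
    ∃ q ∈ QQ z, Commute y q ∧ cj (q * g) x1 = a ∧ cj (q * g) x2 = c ∧ cj (q * g) x3 = e ∧ cj (q * g) x4 = p := by
  obtain ⟨i, k1⟩ := cj_cond h.co cg.1 h1 h.aQ (by rw [cg.2 _ h1, e1, h.pa])
  obtain ⟨j, k2⟩ := cj_cond h.co cg.1 h2 h.cQ (by rw [cg.2 _ h2, e2, h.pc])
  obtain ⟨k, k3⟩ := cj_cond h.co cg.1 h3 h.eQ (by rw [cg.2 _ h3, e3, h.pe])
  obtain ⟨l, k4⟩ := cj_cond h.co cg.1 h4 h.pQ (by rw [cg.2 _ h4, e4, h.pp])
  obtain ⟨v, f0, f1, f2, f3, f4⟩ := c_adj i j k l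
  obtain ⟨q, hq, rfl⟩ := h.co.surj v
  exact ⟨q, hq, fix3 h.co h.cy h.y3 hq f0, k1 q hq (h.pa ▸ f1), k2 q hq (h.pc ▸ f2), k3 q hq (h.pe ▸ f3),
    k4 q hq (h.pp ▸ f4)⟩

theorem cyi : Ac z π y⁻¹ (mx Yi) := h.co.ac_inv h.cy fun v => (c_y v).2.1

theorem triv (hb : Bd z π L15 W15 N15) (gz : Commute z g) (ga : Commute g a) (gc : Commute g c) (gy : Commute y g)
    (kz : Commute z k) (ky : Commute y k) (e : cj k g = g⁻¹) : g ∈ QQ z := by
  obtain ⟨T, c⟩ := h.co.exists_ac gz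
  obtain ⟨n, hn, c⟩ := mem_N h.lf hb c (h.pa ▸ h.co.fix_of_comm c h.aQ ga)
  have key : ∀ u, Commute u g → Commute u k → g * u⁻¹ ∈ QQ z → u * u ∈ QQ z := fun u h1 h2 h3 => by
    have := inv_mem (mul_mem h3 (h.co.bg.cj_mem kz h3))
    change (g * u⁻¹ * cj k (g * u⁻¹))⁻¹ ∈ _ at this
    rwa [cj_mul, e, cj_of_commute h2.inv_left.symm, ← h1.inv_left.eq, mul_assoc, mul_inv_cancel_left, mul_inv_rev,
      inv_inv] at this
  rcases (c_N n hn).2.2.2 (h.pc ▸ h.co.fix_of_comm c h.cQ gc) (h.co.ac_comm c h.cy gy.symm _)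
    (h.co.ac_comm c h.cy gy.symm _) with rfl | rfl | rfl
  · exact h.co.mem_of_ac c mx_one
  · exact absurd (h.co.ac_ac h.cy (key y gy ky (h.co.mul_inv_mem c h.cy fun _ => rfl)) (vv 2)) (by decide +kernel)
  · exact absurd (h.co.ac_ac h.cyi (key _ gy.inv_left ky.inv_left (h.co.mul_inv_mem c h.cyi fun _ => rfl)) (vv 2))
      (by decide +kernel)

theorem uniq (hb : Bd z π L15 W15 N15) (ss : s * s = 1) (tt : t * t = 1) (zs : Commute z s) (zt : Commute z t)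
    (ys : Commute y s) (yt : Commute y t) (h1 : cj t a = cj s a) (h2 : cj t c = cj s c) (h3 : cj t e = cj s e)
    (h4 : cj t p = cj s p) (j : IsConj z t) (n : ¬ IsConj z (z * s)) : t = s := by
  have k : ∀ x, cj t x = cj s x → Commute (s * t) x := fun x e => cj_eq_self_iff.1 (by rw [← cj_cj, e, cj_cj, ss, cj_one])
  have m := h.triv hb (zs.mul_right zt) (k a h1) (k c h2) (ys.mul_right yt) zs ys (by
    simp [cj, mul_mul ss, inv_eq_of_mul_eq_one_right ss, inv_eq_of_mul_eq_one_right tt, mul_assoc])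
  rcases (h.four m (ys.mul_right yt) (k a h1) (k c h2)).2 (k e h3) (k p h4) with e | e
  · rw [← mul_mul ss t, e, mul_one]
  · exact absurd (by rwa [zs.eq, show s * z = t by rw [← e, mul_mul ss]]) n

end D1

/-- The root elements `s, b` of `Q_a`. -/
structure D2 (z : G) (π : G → V) (y a c e p s b : G) : Prop extends D1 z π y a c e p where
  bd : Bd z π L15 W15 N15
  sA : s ∈ QQ a
  ss : s * s = 1
  zs : Commute z s
  ys : Commute y s
  sa : cj s a = a
  sc : cj s c = a * c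
  se : cj s e = e
  sp : cj s p = e * p
  js : IsConj z s
  ns : ¬ IsConj z (z * s)
  ps : cj p s = e * s
  bA : b ∈ QQ a
  bb : b * b = 1
  yb : Commute y b
  ba : cj b a = a
  bz : cj b z = z * a
  bs : cj b s = s
  bc : cj b c = c
  be : cj b e = e * s

theorem exists_D2 (h : Lf z π O15 L15) (hb : Bd z π L15 W15 N15) : ∃ y a c e p s b, D2 z π y a c e p s b := by
  have k := h.co
  obtain ⟨y, cy, y3⟩ := exists_y h
  obtain ⟨a, pd⟩ := h.base d0 List.mem_cons_self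
  obtain ⟨π', k', pz, cy', n1, n2⟩ := at_a h cy y3 pd
  have zA := (k.symm pd.pt).mem
  obtain ⟨s, sA, ps⟩ := k'.surj (vv 134)
  have ss := (k'.sq s sA).2 (ps ▸ by decide +kernel)
  have zs := (k'.comm z zA s sA).2 (by rw [pz, ps]; decide +kernel)
  have ys := fix3 k' cy' y3 sA (ps ▸ by decide +kernel)
  obtain ⟨m, hm, cs⟩ := pd.exists_ac k sA zs
  obtain rfl := (c_s m hm (k.ac_comm cs cy ys.symm _)).resolve_left fun e => (n2 s sA ps).2 (k.mem_of_ac cs (e ▸ mx_one))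
  obtain ⟨c, cQ, pc⟩ := k.surj (vv 8)
  obtain ⟨p, pQ, pp⟩ := k.surj (vv 16)
  obtain ⟨e, sp⟩ : ∃ e, cj s p = e * p := ⟨cj s p * p⁻¹, by simp⟩
  have e1 : e = cj s p * p⁻¹ := by simp [sp]
  have eQ : e ∈ QQ z := e1 ▸ mul_mem (k.cj_mem cs pQ) (inv_mem pQ)
  have d : D1 z π y a c e p := ⟨h, y3, cy, pd, cQ, eQ, pQ, pc, by
    rw [e1, k.mul _ (k.cj_mem cs pQ) _ (inv_mem pQ), k.inv pQ, cs.2 p pQ, pp]; decide +kernel, pp⟩
  have se : cj s e = e := by
    have := sw ss sp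
    rw [cj_mul, sp, ← mul_assoc, mul_eq_right] at this
    rw [eq_inv_of_mul_eq_one_left this, inv_eq_of_mul_eq_one_right d.ee]
  have sc : cj s c = a * c := (cj_or k' sA d.cA).resolve_left fun e =>
    absurd ((cs.2 c cQ).symm.trans (congrArg π e)) (by rw [pc]; decide +kernel)
  have es := (cj_eq_self_iff.1 se).symm
  have ps' : cj p s = e * s := (flip ss d.p2 sp).trans es.eq.symm
  obtain ⟨w, w0, w1, w2, w3, w4, w5⟩ := c_b (π' c) (k'.fix_of_comm cy' d.cA d.yc) (pz ▸ (k'.comm _ d.cA _ zA).1 d.zc.symm)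
    (by
      rw [← ps, ← Bool.not_eq_false, ← k'.comm _ d.cA _ sA]
      exact fun e => d.a_ne (by simpa [sc] using cj_of_commute e.symm)) ((k'.sq _ d.cA).1 d.cc)
  obtain ⟨b, bA, rfl⟩ := k'.surj w
  have bb := (k'.sq b bA).2 w1
  have yb := fix3 k' cy' y3 bA w0
  have bz := k'.cj_of_fb bA zA (pz ▸ w2)
  have bs := (k'.comm b bA s sA).2 (ps ▸ w3)
  have bc := (k'.comm b bA c d.cA).2 w4
  have ba := k'.bg.comm bA
  have m : cj e b ∈ QQ a := k'.bg.cj_mem d.ae bA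
  have zcA := mul_mem zA d.cA
  have be : cj b e = e * s := by
    rcases (k'.eq_iff m (mul_mem bA sA)).1 ((w5 _ (k'.fix_of_comm cy' m (commute_cj_of_commute d.ye yb))
      ((k'.sq _ m).1 (by rw [← cj_mul, bb, cj_one_right])) (by
        rw [← pz, ← Bool.not_eq_false, ← k'.comm _ m _ zA, commute_cj_left_of d.ze.symm]
        exact fun e => d.a_ne (by simpa [bz] using cj_of_commute e))
      (ps ▸ (k'.comm _ m _ sA).1 ((commute_cj_left_of es).2 bs))
      (by rw [← pz, ← k'.mul _ zA _ d.cA, ← k'.comm _ m _ zcA, ← d.e_c, TT.commute_cj]; exact bc)).trans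
        (by rw [k'.mul _ bA _ sA, ps])) with f | f
    · exact flip d.ee bb (f.trans bs.eq)
    · refine absurd ((n2 s sA ps).1.trans ((LX.isConj_cj p s).trans (.symm ?_))) (nr h (mul_mem d.aQ eQ) (by
        rw [k.mul _ d.aQ _ eQ, d.pa, d.pe]; decide +kernel))
      convert LX.isConj_cj b _ using 1
      rw [cj_mul, cj_of_commute ba.symm, flip d.ee bb (by rw [f, bs.eq, ← mul_assoc]), ps', ← d.ae.left_comm,
        mul_mul d.aa]
  exact ⟨y, a, c, e, p, s, b, d, hb, sA, ss, zs, ys, cj_of_commute (k'.bg.comm sA).symm, sc, se, sp, (n2 s sA ps).1,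
    n1 _ (mul_mem zA sA) (by rw [k'.mul _ zA _ sA, pz, ps]; decide +kernel), ps', bA, bb, yb, cj_of_commute ba.symm,
    bz.trans d.za.eq.symm, cj_of_commute bs, cj_of_commute bc, be⟩

end Cfsg.Agent.W4M
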