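import Mathlib
import Cfsg.Agent.W4M.B

/-! The configuration `S3 × A5`: the simple reflections and their relations. -/

set_option autoImplicit false
set_option maxRecDepth 100000
set_option linter.unusedSectionVars false
set_option linter.unusedVariables false

namespace Cfsg.Agent.W4M

open Cfsg.Agent.Spor Cfsg.Agent.Spor.TT Cfsg.Agent.LX Cfsg.Agent.Gr6 Cfsg.Agent.W3 Cfsg.Agent.W4 Subgroup

variable {G : Type*} [Group G] [Finite G] {z a b c e g k p q s t u v w x y : G} {π : G → V} {S T : V → V}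

theorem tr {x' w' u' : G} (h : cj x w = u) (h1 : cj g x = x') (h2 : cj g w = w') (h3 : cj g u = u') : cj x' w' = u' := by
  rw [← h1, ← h2, ← h3, ← cj_dist, h]

theorem comm2 (h1 : cj g x = w) (h2 : cj k w = x) : Commute (k * g) x := cj_eq_self_iff.1 (by rw [← cj_cj, h1, h2])

theorem comm3 (h1 : Commute x u) (h2 : Commute x v) : Commute x (u * v * u) := (h1.mul_right h2).mul_right h1

theorem D1.cube (h : D1 z π y a c e p) (hb : Bd z π L15 W15 N15) (gz : Commute z g) (ga : Commute g a) (gc : Commute g c)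
    (gy : Commute y g) (kz : Commute z k) (ky : Commute y k) (e : cj k g = g⁻¹) : g ∈ QQ z ∧ g⁻¹ = g :=
  have m := h.triv hb gz ga gc gy kz ky e
  ⟨m, inv_eq_of_mul_eq_one_right ((h.co.sq _ m).2 (by
    rcases (h.four m gy ga gc).1 with e | e | e | e <;> rw [e] <;> decide +kernel))⟩

/-- The root element `t`. -/
structure D3 (z : G) (π : G → V) (y a c e p s b t : G) : Prop extends D2 z π y a c e p s b where
  tt : t * t = 1
  zt : Commute z t
  yt : Commute y t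
  ta : cj t a = a * c
  tc : cj t c = c
  te : cj t e = e * p
  tp : cj t p = p
  jt : IsConj z t
  nt : ¬ IsConj z (z * t)
  ec : ¬ Et z π c (vv 6)

theorem D2.exists_t (h : D2 z π y a c e p s b) : ∃ t, D3 z π y a c e p s b t := by
  obtain ⟨g, cg⟩ := h.lf.rl [5, 2, 5]
  obtain ⟨g, cg, gy⟩ := fratt h.co h.cy h.y3 h.cy h.y3 (c_w.2.1 ▸ cg) fun v => (c_y v).2.2.1
  obtain ⟨q, hq, yq, h1, h2, h3, h4⟩ := h.adj cg h.cQ h.aQ h.pQ h.eQ (h.pc ▸ by decide +kernel) (h.pa ▸ by decide +kernel)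
    (h.pp ▸ by decide +kernel) (h.pe ▸ by decide +kernel)
  have gz := (h.co.bg.comm hq).mul_right cg.1
  exact ⟨cj (q * g) s, h, by rw [← cj_mul, h.ss, cj_one_right], W4.commute_cj gz h.zs,
    commute_cj_of_commute (yq.mul_right (cj_eq_self_iff.1 gy).symm) h.ys,
    tr h.sc rfl h1 (by rw [cj_mul, h1, h2, h.ac.eq]), tr h.sa rfl h2 h2, tr h.sp rfl h3 (by rw [cj_mul, h3, h4, h.ep.eq]),
    tr h.se rfl h4 h4, h.js.trans (LX.isConj_cj _ _), fun k => h.ns (k.trans (by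
      rw [← cj_of_commute gz.symm, ← cj_mul, cj_of_commute gz.symm]; exact (LX.isConj_cj _ _).symm)), fun k =>
      absurd ((h.pd.et (vv 96)).1 ((h.co.et_cj (h.co.ac_mul (h.co.ac_mem hq) cg)).1 (h2 ▸ by exact k))) (by decide +kernel)⟩

namespace D2

variable (h : D2 z π y a c e p s b)
include h

theorem n1a : cj (p * b * p) z = a ∧ cj (p * b * p) a = z ∧ cj (b * p * b) z = a ∧ cj (b * p * b) a = z :=
  s3 h.co.zz h.aa h.za (cj_of_commute h.zp.symm) h.p_a h.ba h.bz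

theorem n1e : cj (p * b * p) e = s ∧ cj (p * b * p) s = e ∧ cj (b * p * b) e = s ∧ cj (b * p * b) s = e :=
  s3 h.ee h.ss (cj_eq_self_iff.1 h.se).symm (cj_of_commute h.ep.symm) h.ps h.bs h.be

theorem n1c : Commute c (p * b * p) := comm3 h.pcc.symm (cj_eq_self_iff.1 h.bc).symm

theorem n1 : p * b * p = b * p * b ∧ cj (p * b * p) p = b := by
  obtain ⟨-, h1, h2, h3⟩ := inv_cube h.p2 h.bb
  have k1 := (h.n1c.mul_right (comm3 (cj_eq_self_iff.1 h.bc).symm h.pcc.symm)).symm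
  have k2 := (comm3 h.yp h.yb).mul_right (comm3 h.yb h.yp)
  have k3 := comm2 h.n1a.2.2.2 h.n1a.1
  obtain ⟨m, i⟩ := h.cube h.bd (comm2 h.n1a.2.2.1 h.n1a.2.1).symm k3 k1 k2 h.zp h.yp h1
  refine h3 (((h.four m k2 k3 k1).2 (comm2 h.n1e.2.2.1 h.n1e.2.1) (cj_eq_self_iff.1 (h1.trans i)).symm).resolve_right
    fun e => h.a_ne ?_)
  rwa [i, e, h.bz, mul_eq_left] at h2

end D2

/-- `g` induces the graph symmetry. -/
structure Gd (z : G) (π : G → V) (y a c e p g : G) : Prop where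
  ac : Ac z π g (mx tM)
  gy : cj g y = y⁻¹
  ga : cj g a = e
  ge : cj g e = a
  gc : cj g c = p
  gp : cj g p = c

theorem Gd.comm (k : Gd z π y a c e p g) (h : Commute y x) : Commute y (cj g x) := by
  simpa [k.gy] using (TT.commute_cj (g := g)).2 h

namespace D3

variable (h : D3 z π y a c e p s b t)
include h

theorem n2a : cj (s * t * s) a = c ∧ cj (s * t * s) c = a ∧ cj (t * s * t) a = c ∧ cj (t * s * t) c = a :=
  s3 h.aa h.cc h.ac h.sa h.sc h.tc h.ta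

theorem n2e : cj (s * t * s) e = p ∧ cj (s * t * s) p = e ∧ cj (t * s * t) e = p ∧ cj (t * s * t) p = e :=
  s3 h.ee h.p2 h.ep h.se h.sp h.tp h.te

theorem n2 : cj (s * t * s) s = t := by
  obtain ⟨-, h1, -, h3⟩ := inv_cube h.ss h.tt
  have k1 := comm2 h.n2a.2.2.2 h.n2a.1
  have k2 := (comm3 h.ys h.yt).mul_right (comm3 h.yt h.ys)
  have k3 := comm2 h.n2a.2.2.1 h.n2a.2.1
  have m := h.triv h.bd ((comm3 h.zs h.zt).mul_right (comm3 h.zt h.zs)) k3 k1 k2 h.zs h.ys h1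
  refine (h3 (((h.four m k2 k3 k1).2 (comm2 h.n2e.2.2.1 h.n2e.2.1) (comm2 h.n2e.2.2.2 h.n2e.1)).resolve_right
    fun e => h.nt (h.js.trans ?_))).2
  convert LX.isConj_cj (s * t * s) s using 1
  simp [← e, cj, mul_assoc, mul_mul h.ss, h.tt, inv_eq_of_mul_eq_one_right h.ss, inv_eq_of_mul_eq_one_right h.tt]

theorem braid : p * b * p * (s * t * s) * (p * b * p) = s * t * s * (p * b * p) * (s * t * s) := by
  obtain ⟨n, hn⟩ : ∃ n, n = p * b * p := ⟨_, rfl⟩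
  obtain ⟨m, hm⟩ : ∃ m, m = s * t * s := ⟨_, rfl⟩
  have nn : n * n = 1 := hn ▸ (inv_cube h.p2 h.bb).1
  have mm : m * m = 1 := hm ▸ (inv_cube h.ss h.tt).1
  have nz : cj n z = a := hn ▸ h.n1a.1
  have na : cj n a = z := hn ▸ h.n1a.2.1
  have nc : cj n c = c := hn ▸ cj_of_commute h.n1c.symm
  have zm : Commute z m := hm ▸ comm3 h.zs h.zt
  have mz := cj_of_commute zm.symm
  have ma : cj m a = c := hm ▸ h.n2a.1
  have mc : cj m c = a := hm ▸ h.n2a.2.1
  have yn : Commute y n := hn ▸ comm3 h.yp h.yb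
  have ym : Commute y m := hm ▸ comm3 h.ys h.yt
  obtain ⟨-, h1, h2, h3⟩ := inv_cube nn mm
  rw [← hn, ← hm]
  refine (h3 ?_).1
  obtain ⟨w, hw⟩ : ∃ w, w = n * m * n * (m * n * m) := ⟨_, rfl⟩
  have k : cj w z = z ∧ cj w a = a ∧ cj w c = c := by simp only [hw, ← cj_cj, nz, na, nc, mz, ma, mc, and_self]
  have k2 : Commute y w := hw ▸ (comm3 yn ym).mul_right (comm3 ym yn)
  rw [← hw] at h1 h2 ⊢
  obtain ⟨q, i⟩ := h.cube h.bd (cj_eq_self_iff.1 k.1).symm (cj_eq_self_iff.1 k.2.1) (cj_eq_self_iff.1 k.2.2) k2 zm ym h2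
  obtain ⟨T, cm⟩ := h.co.exists_ac zm
  have t1 : T (vv 1) = vv 8 := by rw [← h.pa, ← cm.2 _ h.aQ, ma, h.pc]
  have t8 : T (vv 8) = vv 1 := by rw [← h.pc, ← cm.2 _ h.cQ, mc, h.pa]
  have tw : T (π w) = π w := by rw [← cm.2 _ q, h2, i]
  rw [i] at h1
  rcases (h.four q k2 (cj_eq_self_iff.1 k.2.1) (cj_eq_self_iff.1 k.2.2)).1 with f | f | f | f
  · exact ((h.co.ker _ q).1 f).resolve_right fun f => h.pd.pt.ne (by rw [← nz, ← f, h1])
  · exact absurd (t1.symm.trans (f ▸ tw)) (by decide)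
  · exact absurd (t8.symm.trans (f ▸ tw)) (by decide)
  exfalso
  rcases (h.co.eq_iff q (mul_mem h.aQ h.cQ)).1 (by rw [f, h.co.mul _ h.aQ _ h.cQ, h.pa, h.pc]; rfl) with f | f
  · rw [f, cj_mul, na, nc, mul_left_inj] at h1
    exact h.pd.pt.ne h1.symm
  have sa := cj_eq_self_iff.1 h.sa
  have e1 : m * n * m = n * m * n * w := by simp [hw, mul_assoc, mul_mul nn, mul_mul mm]
  have e2 : cj w s = s * a := by
    rw [f, ← cj_cj, ← cj_cj, flip h.ss h.cc h.sc, cj_of_commute (sa.symm.mul_right (Commute.refl a)),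
      cj_of_commute (h.zs.mul_right h.za)]
  have ns : cj n s = e := hn ▸ h.n1e.2.1
  have me : cj m e = p := hm ▸ h.n2e.1
  have e3 : cj (m * n * m) s = b * a := by
    rw [e1, ← cj_cj, e2]
    simp only [← cj_cj, cj_mul, ns, me, na, mz, nz, show cj n p = b from hn ▸ h.n1.2]
  have e4 : cj (m * n * m) t = p := by rw [← cj_cj, ← cj_cj, sw mm (show cj m s = t from hm ▸ h.n2), ns, me]
  have e5 : cj (m * n * m) m = n * w := by
    simp [hw, cj, mul_assoc, mul_mul nn, mul_mul mm, inv_eq_of_mul_eq_one_right nn, inv_eq_of_mul_eq_one_right mm]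
  have e6 : b * a * p * (b * a) = n * (z * a) := by
    have h1 := flip h.p2 h.aa h.p_a
    rw [cj, inv_eq_of_mul_eq_one_right h.aa] at h1
    nth_rw 2 [(cj_eq_self_iff.1 h.ba).eq]
    rw [hn, h.n1.1, ← h.bz, show b * a * p * (a * b) = b * (a * p * a) * b by simp only [mul_assoc], h1]
    simp [cj, mul_assoc, mul_mul h.bb, inv_eq_of_mul_eq_one_right h.bb]
  nth_rw 3 [hm] at e5
  rw [cj_mul, cj_mul, e3, e4, e6, f, mul_right_inj, mul_right_inj, left_eq_mul] at e5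
  exact absurd (h.pc.symm.trans (e5 ▸ h.co.one)) (by decide)

theorem gs (k : Gd z π y a c e p g) : cj g s = s :=
  h.uniq h.bd h.ss (by rw [← cj_mul, h.ss, cj_one_right]) h.zs (W4.commute_cj k.ac.1 h.zs) h.ys (k.comm h.ys)
    ((tr h.se rfl k.ge k.ge).trans h.sa.symm) (tr h.sp rfl k.gp (by rw [cj_mul, k.ge, k.gp, h.sc]))
    ((tr h.sa rfl k.ga k.ga).trans h.se.symm) (tr h.sc rfl k.gc (by rw [cj_mul, k.ga, k.gc, h.sp]))
    (h.js.trans (LX.isConj_cj _ _)) h.ns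

theorem gt (k : Gd z π y a c e p g) : cj g t = t :=
  h.uniq h.bd h.tt (by rw [← cj_mul, h.tt, cj_one_right]) h.zt (W4.commute_cj k.ac.1 h.zt) h.yt (k.comm h.yt)
    (tr h.te rfl k.ge (by rw [cj_mul, k.ge, k.gp, h.ta])) ((tr h.tp rfl k.gp k.gp).trans h.tc.symm)
    (tr h.ta rfl k.ga (by rw [cj_mul, k.ga, k.gc, h.te])) ((tr h.tc rfl k.gc k.gc).trans h.tp.symm)
    (h.jt.trans (LX.isConj_cj _ _)) h.nt

theorem exists_g : ∃ g, Gd z π y a c e p g ∧ Commute b (cj g b) ∧ g * g = 1 := by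
  obtain ⟨g, k, gb⟩ : ∃ g, Gd z π y a c e p g ∧ Commute b (cj g b) := by
    obtain ⟨g, cg⟩ := h.lf.rl [0, 4, 0]
    obtain ⟨g, cg, gy⟩ := fratt h.co h.cy h.y3 h.cyi (by rw [inv_pow, h.y3, inv_one]) (c_w.2.2 ▸ cg) fun v => (c_y v).2.2.2.1
    obtain ⟨q, hq, yq, h1, h2, h3, h4⟩ := h.adj cg h.eQ h.pQ h.aQ h.cQ (h.pe ▸ by decide +kernel) (h.pp ▸ by decide +kernel)
      (h.pa ▸ by decide +kernel) (h.pc ▸ by decide +kernel)
    have k : Gd z π y a c e p (q * g) := ⟨(h.co.ac_mul (h.co.ac_mem hq) cg :),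
      by rw [← cj_cj, gy, cj_of_commute yq.symm.inv_right], h3, h1, h4, h2⟩
    obtain ⟨π', k'⟩ := h.co.of_isConj h.js
    have m : b ∈ QQ s := by rw [← h.n1.2, ← h.n1e.1, cj_mem_QQ, ← h3, ← h4, cj_mem_QQ]; exact h.cA
    rcases cj_or k' (show cj (q * g) b ∈ QQ s from h.gs k ▸ cj_mem_QQ.2 (h.gs k ▸ m)) m with f | f
    · exact ⟨_, k, (cj_eq_self_iff.1 f).symm⟩
    have i : ∀ x, Commute z x → cj (q * g * z) x = cj (q * g) x := fun x e => by rw [← cj_cj, cj_of_commute e]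
    refine ⟨q * g * z, ⟨(h.co.ac_mul k.ac (h.co.ac_mem h.co.bg.z_mem) :), (i y h.cy.1).trans k.gy, (i a h.za).trans h3,
      (i e h.ze).trans h1, (i c h.zc).trans h4, (i p h.zp).trans h2⟩, (cj_eq_self_iff.1 ?_).symm⟩
    rw [← cj_cj _ z, flip h.bb h.co.zz (h.bz.trans h.za.eq), (cj_eq_self_iff.1 h.ba).eq, cj_mul, h3, ← cj_cj, f, cj_mul,
      flip h.bb h.ee (h.be.trans (cj_eq_self_iff.1 h.se).eq.symm), cj_of_commute (cj_eq_self_iff.1 h.se).symm,
      (cj_eq_self_iff.1 h.bs).eq, mul_mul h.ss]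
  refine ⟨g, k, gb, ((h.four (h.co.mem_of_ac (h.co.ac_mul k.ac k.ac) fun v => (c_y v).2.2.2.2)
    (comm2 k.gy (by rw [cj_inv, k.gy, inv_inv])).symm (comm2 k.ga k.ge) (comm2 k.gc k.gp)).2 (comm2 k.ge k.ga)
      (comm2 k.gp k.gc)).resolve_right fun f => ?_⟩
  have h1 := (TT.commute_cj (g := g)).2 gb
  rw [cj_cj, f, flip h.bb h.co.zz (h.bz.trans h.za.eq)] at h1
  have h2 := tr h.be rfl k.ge (show _ = a * s by rw [cj_mul, k.ge, h.gs k])
  rw [cj_of_commute (by simpa [mul_mul h.bb] using gb.symm.mul_right h1), left_eq_mul] at h2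
  exact h.co.bg.ne_one (isConj_one_left.1 (h2 ▸ h.js))

end D3

end Cfsg.Agent.W4M
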